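import Groth.Agent.NodeThickJetLib.Jet

/-! Nodes of given thickness seen through first order jets. -/

set_option autoImplicit false
set_option backward.isDefEq.respectTransparency false
set_option backward.isDefEq.respectTransparency.types false

universe u v

open IsLocalRing MvPowerSeries

noncomputable section

namespace NodeThickJetLib

variable {R : Type u} [CommRing R] [IsLocalRing R] [IsNoetherianRing R]

/-- A ring map out of a completion killing the maximal ideal downstairs only sees the residue field. -/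
theorem comp_eq_of_vanish {T' : Type v} [CommRing T'] (g : Curv2.cpl R →+* T') (n : ℕ)
    (hg : ∀ r ∈ maximalIdeal R ^ n, g (algebraMap R _ r) = 0) (z : Curv2.cpl R) :
    ∃ r : R, g z = g (algebraMap R _ r) := by
  obtain ⟨r, hr⟩ := Submodule.Quotient.mk_surjective _ (AdicCompletion.eval (maximalIdeal R) R n z)
  refine ⟨r, sub_eq_zero.1 ?_⟩
  rw [← map_sub]
  have h : z - algebraMap R (Curv2.cpl R) r ∈ (AdicCompletion.eval (maximalIdeal R) R n).ker := by
    rw [LinearMap.mem_ker, map_sub, ← hr]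
    exact sub_eq_zero.2 rfl
  rw [← AdicCompletion.pow_smul_top_eq_ker_eval (maximalIdeal R).fg_of_isNoetherianRing,
    Ideal.smul_top_eq_map, Submodule.restrictScalars_mem] at h
  have h2 : (maximalIdeal R ^ n).map (algebraMap R (Curv2.cpl R)) ≤ RingHom.ker g :=
    Ideal.map_le_iff_le_comap.2 hg
  exact h2 h

variable {S : Type u} [CommRing S]

/-- The jet of a node over the completion, for a quotient ring killing the thickness. -/
def nodeJet (θ : Curv2.cpl R →+* S) (a : R) (ha : θ (algebraMap R _ a) = 0) :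
    DualGr.nodeRing R a →+* T S :=
  Ideal.Quotient.lift _ ((jet S).comp (MvPowerSeries.map θ)) fun x hx => by
    classical
    obtain ⟨t, rfl⟩ := Ideal.mem_span_singleton.1 hx
    rw [map_mul]
    simp [ha, jet_X, TrivSqZeroExt.inr_mul_inr, jet_C]

theorem nodeJet_mk (θ : Curv2.cpl R →+* S) (a : R) (ha : θ (algebraMap R _ a) = 0)
    (F : MvPowerSeries (Fin 2) (Curv2.cpl R)) :
    nodeJet θ a ha (Ideal.Quotient.mk _ F) = jet S (MvPowerSeries.map θ F) := rfl

theorem nodeJet_surjective (θ : Curv2.cpl R →+* S) (hθ : Function.Surjective θ) (a : R)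
    (ha : θ (algebraMap R _ a) = 0) : Function.Surjective (nodeJet θ a ha) := by
  intro t
  obtain ⟨F, rfl⟩ := jet_surjective S t
  choose G hG using fun d => hθ (MvPowerSeries.coeff d F)
  refine ⟨Ideal.Quotient.mk _ (fun d => G d : MvPowerSeries (Fin 2) (Curv2.cpl R)), ?_⟩
  rw [nodeJet_mk]
  congr 1
  exact MvPowerSeries.ext fun d => by rw [MvPowerSeries.coeff_map]; exact hG d

/-- Two presentations: the thickness of one lies in the ideal of the other, modulo powers of the maximal ideal. -/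
theorem mem_sup_of_two_nodes {A : Type u} [CommRing A] [IsLocalRing A] (φ : R →+* A) (a b : R)
    (hb : b ∈ maximalIdeal R) (h₁ : DualGr.IsThickNode φ a) (h₂ : DualGr.IsThickNode φ b) (n : ℕ) (hn : n ≠ 0) :
    a ∈ Ideal.span {b} ⊔ maximalIdeal R ^ n := by
  obtain ⟨e₁, he₁⟩ := h₁
  obtain ⟨e₂, he₂⟩ := h₂
  let I := Ideal.span {b} ⊔ maximalIdeal R ^ n
  have hI : I ≤ maximalIdeal R :=
    sup_le ((Ideal.span_singleton_le_iff_mem _).2 hb) (Ideal.pow_le_self hn)
  haveI : Nontrivial (R ⧸ I) :=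
    Ideal.Quotient.nontrivial_iff.2 fun h => (maximalIdeal.isMaximal R).ne_top (top_le_iff.1 (h ▸ hI))
  haveI : IsLocalRing (R ⧸ I) := IsLocalRing.of_surjective' _ Ideal.Quotient.mk_surjective
  let ev := (AdicCompletion.evalₐ (maximalIdeal R) n).toRingHom
  let θ : Curv2.cpl R →+* R ⧸ I := (Ideal.Quotient.factor (show maximalIdeal R ^ n ≤ I from le_sup_right)).comp ev
  have hθr : ∀ r, θ (algebraMap R _ r) = Ideal.Quotient.mk I r := fun r => by simp [θ, ev]
  have hθ : Function.Surjective θ := fun y => by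
    obtain ⟨r, rfl⟩ := Ideal.Quotient.mk_surjective y
    exact ⟨_, hθr r⟩
  have hθb : θ (algebraMap R _ b) = 0 := by
    rw [hθr]; exact Ideal.Quotient.eq_zero_iff_mem.2 (Ideal.mem_sup_left (Ideal.mem_span_singleton_self _))
  let g : MvPowerSeries (Fin 2) (Curv2.cpl R) →+* T (R ⧸ I) :=
    ((nodeJet θ b hθb).comp (e₁.symm.trans e₂).toRingHom).comp (Ideal.Quotient.mk _)
  have hgs : Function.Surjective g :=
    ((nodeJet_surjective θ hθ b hθb).comp (e₁.symm.trans e₂).surjective).comp Ideal.Quotient.mk_surjective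
  have hgr : ∀ r, g (MvPowerSeries.C (algebraMap R _ r)) = TrivSqZeroExt.inl (Ideal.Quotient.mk I r) := fun r => by
    show nodeJet θ b hθb (e₂ (e₁.symm (Ideal.Quotient.mk _ _))) = _
    rw [← he₁, RingEquiv.symm_apply_apply, he₂, nodeJet_mk, MvPowerSeries.map_C, jet_C, hθr]
  have hC : ∀ (s : Curv2.cpl R) (i : Fin 2), (g (MvPowerSeries.C s)).snd i ∈ maximalIdeal (R ⧸ I) := by
    intro s i
    obtain ⟨r, hr⟩ := comp_eq_of_vanish
      ((TrivSqZeroExt.map (R' := R ⧸ I) (LinearMap.id : (Fin 2 → R ⧸ I) →ₗ[R ⧸ I] _)).toRingHom.comp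
        (g.comp MvPowerSeries.C)) n (fun r hr => by
          show TrivSqZeroExt.map _ (g (MvPowerSeries.C _)) = 0
          rw [hgr, Ideal.Quotient.eq_zero_iff_mem.2 (show r ∈ I from Ideal.mem_sup_right hr)]
          simp) s
    simp only [RingHom.comp_apply, TrivSqZeroExt.map_id, AlgHom.toRingHom_eq_coe, RingHom.coe_coe,
      AlgHom.id_apply] at hr
    rw [hr, hgr]
    simp
  haveI : IsLocalRing (MvPowerSeries (Fin 2) (Curv2.cpl R)) := inferInstance
  have h := eq_zero_of_surjective_jet g hgs hC (Ideal.Quotient.mk I a) (by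
    show ((nodeJet θ b hθb).comp (e₁.symm.trans e₂).toRingHom) (Ideal.Quotient.mk _ _) = _
    rw [Ideal.Quotient.eq.2 (Ideal.mem_span_singleton_self _ : _ ∈ Ideal.span {_})]
    exact hgr a)
  exact Ideal.Quotient.eq_zero_iff_mem.1 h

theorem mem_span_of_two_nodes {A : Type u} [CommRing A] [IsLocalRing A] (φ : R →+* A) (a b : R)
    (hb : b ∈ maximalIdeal R) (h₁ : DualGr.IsThickNode φ a) (h₂ : DualGr.IsThickNode φ b) :
    a ∈ Ideal.span {b} := by
  let J := Ideal.span {b}
  have hJ : J ≠ ⊤ := fun h =>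
    (maximalIdeal.isMaximal R).ne_top (top_le_iff.1 (h ▸ (Ideal.span_singleton_le_iff_mem _).2 hb))
  haveI : Nontrivial (R ⧸ J) := Ideal.Quotient.nontrivial_iff.2 hJ
  haveI : IsLocalRing (R ⧸ J) := IsLocalRing.of_surjective' _ Ideal.Quotient.mk_surjective
  rw [← Ideal.Quotient.eq_zero_iff_mem]
  have hm : Ideal.Quotient.mk J a ∈ (⨅ n : ℕ, (maximalIdeal (R ⧸ J)) ^ n) := by
    refine Submodule.mem_iInf _ |>.2 fun n => ?_
    rw [← map_maximalIdeal_of_surjective (Ideal.Quotient.mk J) Ideal.Quotient.mk_surjective, ← Ideal.map_pow]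
    rcases eq_or_ne n 0 with rfl | hn
    · simp [Ideal.map_top]
    have h := Ideal.mem_map_of_mem (Ideal.Quotient.mk J) (mem_sup_of_two_nodes φ a b hb h₁ h₂ n hn)
    rwa [Ideal.map_sup, Ideal.map_quotient_self, bot_sup_eq] at h
  rwa [Ideal.iInf_pow_eq_bot_of_isLocalRing _ (maximalIdeal.isMaximal _).ne_top] at hm

end NodeThickJetLib

end
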