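import Groth.Prelude.Def_DualGr
import Mathlib.RingTheory.MvPowerSeries.Inverse
import Mathlib.Algebra.TrivSqZeroExt.Basic
import Mathlib.RingTheory.AdicCompletion.LocalRing
import Mathlib.RingTheory.AdicCompletion.Completeness
import Groth.Agent.CohenLib.PSHom

/-! First-order jets of nodes. -/

set_option autoImplicit false
set_option backward.isDefEq.respectTransparency false
set_option backward.isDefEq.respectTransparency.types false

universe u v

open IsLocalRing MvPowerSeries

noncomputable section

namespace NodeThickJetLib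

variable (S : Type u) [CommRing S]

/-- First order jets in two variables. -/
abbrev T : Type u := TrivSqZeroExt S (Fin 2 → S)

/-- The first order jet of a power series at the origin. -/
def jet : MvPowerSeries (Fin 2) S →+* T S where
  toFun f := TrivSqZeroExt.inl (MvPowerSeries.constantCoeff f) +
    TrivSqZeroExt.inr (fun i => MvPowerSeries.coeff (Finsupp.single i 1) f)
  map_one' := by
    refine TrivSqZeroExt.ext ?_ ?_
    · simp
    · funext i
      simp [MvPowerSeries.coeff_one]
  map_mul' f g := by
    classical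
    refine TrivSqZeroExt.ext ?_ ?_
    · simp
    · funext i
      rw [TrivSqZeroExt.snd_mul]
      simp [MvPowerSeries.coeff_mul, Finsupp.antidiagonal_single]
      rw [Finset.Nat.sum_antidiagonal_succ]
      simp [mul_comm]
  map_zero' := by
    refine TrivSqZeroExt.ext ?_ ?_
    · simp
    · funext i; simp
  map_add' f g := by
    refine TrivSqZeroExt.ext ?_ ?_
    · simp
    · funext i; simp

theorem fst_jet (f : MvPowerSeries (Fin 2) S) : (jet S f).fst = MvPowerSeries.constantCoeff f := by
  simp [jet]

theorem snd_jet (f : MvPowerSeries (Fin 2) S) (i : Fin 2) :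
    (jet S f).snd i = MvPowerSeries.coeff (Finsupp.single i 1) f := by
  simp [jet]

theorem jet_C (s : S) : jet S (MvPowerSeries.C s) = TrivSqZeroExt.inl s := by
  classical
  refine TrivSqZeroExt.ext ?_ ?_
  · simp [fst_jet]
  · funext i; simp [snd_jet, MvPowerSeries.coeff_C]

theorem jet_X (j : Fin 2) : jet S (MvPowerSeries.X j) = TrivSqZeroExt.inr (Pi.single j 1) := by
  classical
  refine TrivSqZeroExt.ext ?_ ?_
  · simp [fst_jet]
  · funext i
    simp only [snd_jet, TrivSqZeroExt.snd_inr, MvPowerSeries.coeff_X, Pi.single_apply]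
    refine if_congr ?_ rfl rfl
    exact ⟨fun h => Finsupp.single_left_injective one_ne_zero h, fun h => h ▸ rfl⟩

theorem jet_surjective : Function.Surjective (jet S) := by
  intro t
  refine ⟨MvPowerSeries.C t.fst + MvPowerSeries.C (t.snd 0) * MvPowerSeries.X 0 +
    MvPowerSeries.C (t.snd 1) * MvPowerSeries.X 1, ?_⟩
  refine TrivSqZeroExt.ext ?_ ?_
  · simp [jet_C, jet_X]
  · funext i
    fin_cases i <;> simp [jet_C, jet_X, TrivSqZeroExt.snd_mul, Pi.single_apply]

variable {S}

/-- Every power series in two variables is a constant plus a combination of the two variables. -/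
theorem exists_decomp (f : MvPowerSeries (Fin 2) S) : ∃ g₀ g₁ : MvPowerSeries (Fin 2) S,
    f = MvPowerSeries.C (MvPowerSeries.constantCoeff f) + MvPowerSeries.X 0 * g₀ + MvPowerSeries.X 1 * g₁ := by
  classical
  let g₀ : MvPowerSeries (Fin 2) S := fun n => MvPowerSeries.coeff (n + Finsupp.single 0 1) f
  let g₁ : MvPowerSeries (Fin 2) S := fun n =>
    if n 0 = 0 then MvPowerSeries.coeff (n + Finsupp.single 1 1) f else 0
  refine ⟨g₀, g₁, MvPowerSeries.ext fun n => ?_⟩
  rw [map_add, map_add, MvPowerSeries.coeff_C, mul_comm (X 0), mul_comm (X 1),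
    MvPowerSeries.X_def, MvPowerSeries.X_def, MvPowerSeries.coeff_mul_monomial, MvPowerSeries.coeff_mul_monomial,
    mul_one, mul_one]
  by_cases h0 : n = 0
  · subst h0
    simp [Finsupp.single_le_iff]
  simp only [if_neg h0, zero_add, Finsupp.single_le_iff]
  by_cases h1 : 1 ≤ n 0
  · rw [if_pos h1]
    have e : n - Finsupp.single 0 1 + Finsupp.single 0 1 = n :=
      tsub_add_cancel_of_le (Finsupp.single_le_iff.2 h1)
    split_ifs with h2
    · have : (n - Finsupp.single 1 1 : Fin 2 →₀ ℕ) 0 ≠ 0 := by simp; omega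
      show _ = MvPowerSeries.coeff _ f + (if _ then _ else _)
      rw [if_neg this, e, add_zero]
    · show _ = MvPowerSeries.coeff _ f + 0
      rw [e, add_zero]
  · have h2 : 1 ≤ n 1 := by
      by_contra h2
      exact h0 (Finsupp.ext fun i => by fin_cases i <;> simp <;> omega)
    rw [if_neg h1, if_pos h2, zero_add]
    have e : n - Finsupp.single 1 1 + Finsupp.single 1 1 = n :=
      tsub_add_cancel_of_le (Finsupp.single_le_iff.2 h2)
    show _ = if _ then _ else _
    rw [if_pos (by simp; omega), e]

/-- A surjection onto jets cannot send the product of the variables to a nonzero constant. -/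
theorem eq_zero_of_surjective_jet {Q : Type v} [CommRing Q] [IsLocalRing Q] [IsLocalRing S]
    (ρ : MvPowerSeries (Fin 2) Q →+* T S) (hρ : Function.Surjective ρ)
    (hC : ∀ (s : Q) (i : Fin 2), (ρ (MvPowerSeries.C s)).snd i ∈ maximalIdeal S)
    (α : S) (hα : ρ (MvPowerSeries.X 0 * MvPowerSeries.X 1) = TrivSqZeroExt.inl α) : α = 0 := by
  haveI : Nontrivial (T S) := ⟨⟨0, 1, fun h => zero_ne_one (congrArg TrivSqZeroExt.fst h)⟩⟩
  have hc : ∀ j, (ρ (MvPowerSeries.X j)).fst ∈ maximalIdeal S := by
    intro j hu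
    haveI : IsLocalHom ρ := IsLocalHom.of_surjective ρ hρ
    have h1 : IsUnit (ρ (MvPowerSeries.X j)) := TrivSqZeroExt.isUnit_iff_isUnit_fst.2 hu
    have h2 := MvPowerSeries.isUnit_iff_constantCoeff.1 (IsLocalHom.map_nonunit _ h1)
    rw [MvPowerSeries.constantCoeff_X] at h2
    exact not_isUnit_zero h2
  set c := fun j => (ρ (MvPowerSeries.X j)).fst with hc_def
  set v := fun j => (ρ (MvPowerSeries.X j)).snd with hv_def
  let res := residue S
  have key : ∀ j : Fin 2, ∃ g₀ g₁ : S, ∀ i,
      res ((Pi.single j 1 : Fin 2 → S) i) = res g₀ * res (v 0 i) + res g₁ * res (v 1 i) := by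
    intro j
    obtain ⟨f, hf⟩ := hρ (TrivSqZeroExt.inr (Pi.single j 1))
    obtain ⟨g₀, g₁, hd⟩ := exists_decomp f
    refine ⟨(ρ g₀).fst, (ρ g₁).fst, fun i => ?_⟩
    have h := congrArg (fun t : T S => res (t.snd i)) hf
    rw [hd] at h
    simp only [map_add, map_mul, TrivSqZeroExt.snd_add, TrivSqZeroExt.snd_mul, Pi.add_apply,
      TrivSqZeroExt.snd_inr, Pi.smul_apply, MulOpposite.smul_eq_mul_unop, MulOpposite.unop_op, smul_eq_mul] at h
    rw [(residue_eq_zero_iff _).2 (hC _ i), (residue_eq_zero_iff _).2 (hc 0),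
      (residue_eq_zero_iff _).2 (hc 1)] at h
    rw [← h]
    ring
  obtain ⟨g00, g01, h0⟩ := key 0
  obtain ⟨g10, g11, h1⟩ := key 1
  have a00 := h0 0
  have a01 := h0 1
  have a10 := h1 0
  have a11 := h1 1
  simp only [Pi.single_eq_same, ne_eq, Pi.single_eq_of_ne, zero_ne_one, one_ne_zero, not_false_eq_true,
    map_one, map_zero] at a00 a01 a10 a11
  let d := v 0 0 * v 1 1 - v 0 1 * v 1 0
  have hd : IsUnit d := by
    refine (residue_ne_zero_iff_isUnit d).1 fun h => one_ne_zero (α := ResidueField S) ?_
    have e : (1 : ResidueField S) = (res g00 * res g11 - res g01 * res g10) * res d := by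
      simp only [d, map_sub, map_mul]
      linear_combination (a00 : (1 : ResidueField S) = _) * (res g10 * res (v 0 1) + res g11 * res (v 1 1))
        + a11 - (a01 : (0 : ResidueField S) = _) * (res g10 * res (v 0 0) + res g11 * res (v 1 0))
    rw [e, show res d = 0 from h, mul_zero]
  have hprod := hα
  rw [map_mul] at hprod
  have e0 : c 0 * c 1 = α := congrArg TrivSqZeroExt.fst hprod
  have e1 : ∀ i, c 0 * v 1 i + c 1 * v 0 i = 0 := fun i => by
    have h := congrArg (fun t : T S => t.snd i) hprod
    simpa [TrivSqZeroExt.snd_mul, hc_def, hv_def, mul_comm] using h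
  have hc0 : c 0 * d = 0 := by linear_combination (v 0 0) * e1 1 - (v 0 1) * e1 0
  rw [← e0, (hd.mul_left_eq_zero).1 hc0, zero_mul]

end NodeThickJetLib

end
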