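import Groth.Agent.NodeThickJetLib.Cpl
import Groth.Agent.CohenLib.RegularField
import Groth.Agent.CohenLib.PSHom
import Groth.Agent.AdicRingLib.Completion
import Mathlib.RingTheory.Ideal.KrullsHeightTheorem
import Mathlib.RingTheory.Flat.FaithfullyFlat.Algebra
import Mathlib.RingTheory.Ideal.GoingDown

/-! The non-smooth points of a node of given thickness. -/

set_option autoImplicit false
set_option backward.isDefEq.respectTransparency false
set_option backward.isDefEq.respectTransparency.types false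

universe u v

open IsLocalRing

noncomputable section

namespace NodeThickJetLib

variable {R : Type u} [CommRing R] [IsLocalRing R] [IsNoetherianRing R]

theorem nodeJet_comp {S S' : Type u} [CommRing S] [CommRing S'] (h : S →+* S') (θ : Curv2.cpl R →+* S) (a : R)
    (ha : θ (algebraMap R _ a) = 0) (x : DualGr.nodeRing R a) :
    (nodeJet (h.comp θ) a (by rw [RingHom.comp_apply, ha, map_zero]) x).fst = h (nodeJet θ a ha x).fst ∧
      ∀ i, (nodeJet (h.comp θ) a (by rw [RingHom.comp_apply, ha, map_zero]) x).snd i =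
        h ((nodeJet θ a ha x).snd i) := by
  obtain ⟨F, rfl⟩ := Ideal.Quotient.mk_surjective x
  refine ⟨?_, fun i => ?_⟩
  · rw [nodeJet_mk, nodeJet_mk, fst_jet, fst_jet, MvPowerSeries.constantCoeff_map, MvPowerSeries.constantCoeff_map]
    rfl
  · rw [nodeJet_mk, nodeJet_mk, snd_jet, snd_jet, MvPowerSeries.coeff_map, MvPowerSeries.coeff_map]
    rfl

/-- Two jets that stay independent make the tangent space at least a plane. -/
theorem not_principal {L K : Type u} [CommRing L] [Field K] (Ψ : L →+* T K) (M : Ideal L) (x : Fin 2 → L)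
    (hx : ∀ j, x j ∈ M) (hM : ∀ z ∈ M, (Ψ z).fst = 0)
    (hd : (Ψ (x 0)).snd 0 * (Ψ (x 1)).snd 1 - (Ψ (x 0)).snd 1 * (Ψ (x 1)).snd 0 ≠ 0) :
    ¬ M.IsPrincipal := by
  intro h
  obtain ⟨t, ht⟩ := h
  have htM : t ∈ M := by rw [ht]; exact Ideal.mem_span_singleton_self _
  have hj : ∀ j, ∃ c : K, ∀ i, (Ψ (x j)).snd i = c * (Ψ t).snd i := fun j => by
    obtain ⟨b, hb⟩ := Ideal.mem_span_singleton'.1 (show x j ∈ Ideal.span {t} by rw [← Ideal.submodule_span_eq, ← ht]; exact hx j)
    refine ⟨(Ψ b).fst, fun i => ?_⟩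
    rw [← hb, map_mul, TrivSqZeroExt.snd_mul]
    simp [hM t htM]
  obtain ⟨c0, h0⟩ := hj 0
  obtain ⟨c1, h1⟩ := hj 1
  apply hd
  rw [h0, h0, h1, h1]
  ring

/-- Regular of dimension at most one means principal maximal ideal. -/
theorem isPrincipal_of_regular (L : Type u) [CommRing L] [IsRegularLocalRing L] (h : ringKrullDim L ≤ 1) :
    (maximalIdeal L).IsPrincipal := by
  have h1 := ((isRegularLocalRing_iff L).1 inferInstance).le.trans h
  norm_cast at h1
  have hfg : (maximalIdeal L).FG := (maximalIdeal L).fg_of_isNoetherianRing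
  have hc := Submodule.FG.generators_ncard hfg
  have hfin := Submodule.FG.finite_generators hfg
  rcases Set.eq_empty_or_nonempty (Submodule.generators (maximalIdeal L)) with he | ⟨t, ht⟩
  · exact ⟨0, by rw [← Submodule.span_generators (maximalIdeal L), he]; simp⟩
  · refine ⟨t, ?_⟩
    have : Submodule.generators (maximalIdeal L) = {t} :=
      Set.eq_singleton_iff_unique_mem.2 ⟨ht, fun s hs =>
        (Set.ncard_le_one hfin).1 (hc ▸ h1) s hs t ht⟩
    rw [← Submodule.span_generators (maximalIdeal L), this]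

/-- Over a prime killing the thickness, the branch point has height at most one in its fibre. -/
theorem no_chain_node (p : Ideal R) (hbij : Function.Surjective (algebraMap R (Curv2.cpl R)))
    (θ : Curv2.cpl R →+* R ⧸ p) (hθ : ∀ r, θ (algebraMap R _ r) = Ideal.Quotient.mk p r)
    (a : R) (ha : θ (algebraMap R _ a) = 0)
    (Q₀ Q₁ : Ideal (DualGr.nodeRing R a)) [Q₀.IsPrime] [Q₁.IsPrime] [(RingHom.ker ((TrivSqZeroExt.fstHom (R ⧸ p) (R ⧸ p) (Fin 2 → R ⧸ p)).toRingHom.comp (nodeJet θ a ha))).IsPrime]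
    (h0 : ∀ r ∈ p, Ideal.Quotient.mk _ (MvPowerSeries.C (algebraMap R (Curv2.cpl R) r)) ∈ Q₀)
    (h01 : Q₀ < Q₁)
    (h1 : Q₁ < RingHom.ker ((TrivSqZeroExt.fstHom (R ⧸ p) (R ⧸ p) (Fin 2 → R ⧸ p)).toRingHom.comp (nodeJet θ a ha))) :
    False := by
  set Qb := RingHom.ker ((TrivSqZeroExt.fstHom (R ⧸ p) (R ⧸ p) (Fin 2 → R ⧸ p)).toRingHom.comp (nodeJet θ a ha))
    with hQb
  haveI : IsNoetherianRing (Curv2.cpl R) := AdicRingLib.isNoetherianRing_adicCompletion _
  haveI : IsNoetherianRing (MvPowerSeries (Fin 2) (Curv2.cpl R)) := CohenLib.isNoetherianRing_mvPowerSeries _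
  let N := DualGr.nodeRing R a
  let m : MvPowerSeries (Fin 2) (Curv2.cpl R) →+* N := Ideal.Quotient.mk _
  have hmem : ∀ F, m F ∈ Qb ↔ θ (MvPowerSeries.constantCoeff F) = 0 := fun F => by
    show (nodeJet θ a ha (Ideal.Quotient.mk _ F)).fst = 0 ↔ _
    rw [nodeJet_mk, fst_jet, MvPowerSeries.constantCoeff_map]
  have hxy : m (MvPowerSeries.X 0) * m (MvPowerSeries.X 1) = m (MvPowerSeries.C (algebraMap R _ a)) := by
    rw [← map_mul]
    exact Ideal.Quotient.eq.2 (Ideal.mem_span_singleton_self _)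
  have hap : a ∈ p := Ideal.Quotient.eq_zero_iff_mem.1 ((hθ a).symm.trans ha)
  have hmem0 := h0 a hap
  obtain ⟨o, hQ⟩ : ∃ o : Fin 2, Qb = Q₀ ⊔ Ideal.span {m (MvPowerSeries.X o)} := by
    have hsub : ∀ o : Fin 2, Q₀ ⊔ Ideal.span {m (MvPowerSeries.X o)} ≤ Qb := fun o =>
      sup_le (h01.le.trans h1.le) ((Ideal.span_singleton_le_iff_mem _).2 ((hmem _).2 (by simp)))
    have hmain : ∀ F, m F ∈ Qb → ∃ g₀ g₁ : N, ∃ c ∈ Q₀, m F = c + m (MvPowerSeries.X 0) * g₀ + m (MvPowerSeries.X 1) * g₁ := by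
      intro F hF
      obtain ⟨g₀, g₁, hd⟩ := exists_decomp F
      obtain ⟨r, hr⟩ := hbij (MvPowerSeries.constantCoeff F)
      refine ⟨m g₀, m g₁, m (MvPowerSeries.C (algebraMap R _ r)), h0 r ?_, ?_⟩
      · rw [hmem, ← hr, hθ] at hF
        exact Ideal.Quotient.eq_zero_iff_mem.1 hF
      · conv_lhs => rw [hd, ← hr]
        simp
    rcases ‹Q₀.IsPrime›.mem_or_mem (hxy ▸ hmem0 : m (MvPowerSeries.X 0) * m (MvPowerSeries.X 1) ∈ Q₀) with h | h
    · refine ⟨1, le_antisymm (fun z hz => ?_) (hsub 1)⟩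
      obtain ⟨F, rfl⟩ := Ideal.Quotient.mk_surjective z
      obtain ⟨g₀, g₁, c, hc, e⟩ := hmain F hz
      show m F ∈ _
      rw [e]
      exact add_mem (Ideal.mem_sup_left (add_mem hc (Ideal.mul_mem_right _ _ h)))
        (Ideal.mem_sup_right (Ideal.mul_mem_right _ _ (Ideal.mem_span_singleton_self _)))
    · refine ⟨0, le_antisymm (fun z hz => ?_) (hsub 0)⟩
      obtain ⟨F, rfl⟩ := Ideal.Quotient.mk_surjective z
      obtain ⟨g₀, g₁, c, hc, e⟩ := hmain F hz
      show m F ∈ _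
      rw [e]
      exact add_mem (add_mem (Ideal.mem_sup_left hc)
        (Ideal.mem_sup_right (Ideal.mul_mem_right _ _ (Ideal.mem_span_singleton_self _))))
        (Ideal.mem_sup_left (Ideal.mul_mem_right _ _ h))
  let π := Ideal.Quotient.mk Q₀
  have hker : ∀ {J : Ideal N}, Q₀ ≤ J → (J.map π).comap π = J := fun hJ => by
    rw [Ideal.comap_map_of_surjective π Ideal.Quotient.mk_surjective, ← RingHom.ker_eq_comap_bot,
      Ideal.mk_ker, sup_eq_left.2 hJ]
  haveI hp1 : (Q₁.map π).IsPrime :=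
    Ideal.map_isPrime_of_surjective Ideal.Quotient.mk_surjective (by rw [Ideal.mk_ker]; exact h01.le)
  haveI hp2 : (Qb.map π).IsPrime :=
    Ideal.map_isPrime_of_surjective Ideal.Quotient.mk_surjective (by rw [Ideal.mk_ker]; exact h01.le.trans h1.le)
  have hlt0 : (⊥ : Ideal (N ⧸ Q₀)) < Q₁.map π := bot_lt_iff_ne_bot.2 fun h => by
    apply h01.ne
    have := hker h01.le
    rwa [h, ← RingHom.ker_eq_comap_bot, Ideal.mk_ker] at this
  have hlt1 : Q₁.map π < Qb.map π := lt_of_le_of_ne (Ideal.map_mono h1.le) fun h => h1.ne (by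
    rw [← hker h01.le, h, hker (h01.le.trans h1.le)])
  have hspan : Qb.map π = Ideal.span {π (m (MvPowerSeries.X o))} := by
    rw [hQ, Ideal.map_sup, Ideal.map_quotient_self, bot_sup_eq, Ideal.map_span, Set.image_singleton]
  have h2 : (Qb.map π).height ≤ 1 := by
    haveI : (Qb.map π).IsPrincipal := ⟨_, hspan⟩
    refine Ideal.height_le_one_of_isPrincipal_of_mem_minimalPrimes (Qb.map π) (Qb.map π) ?_
    exact ⟨⟨hp2, le_rfl⟩, fun J hJ _ => hJ.2⟩
  haveI : IsDomain (N ⧸ Q₀) := Ideal.Quotient.isDomain Q₀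
  have h3 : (0 : ℕ∞) < (Q₁.map π).height := by
    refine pos_iff_ne_zero.2 fun h => ?_
    rw [Ideal.height_eq_zero_iff, IsDomain.minimalPrimes_eq_singleton_bot] at h
    exact hlt0.ne' h
  have h4 : (Q₁.map π).height < (Qb.map π).height := Ideal.height_strict_mono_of_isPrime hlt1
  have h5 : (Q₁.map π).height = 0 := by
    have := h4.trans_le h2
    exact ENat.lt_one_iff_eq_zero.1 this
  exact not_lt_zero (h5 ▸ h3)

end NodeThickJetLib

end
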